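import Mathlib.Data.List.Basic

/-! Generated data: centralisers of the elements of order five and seven of `M24`. -/

set_option autoImplicit false

namespace CfsgLib.J4Facts21.Data

/-- An element of order five. -/
def fiveRep : List ℕ := [1,2,3,4,0,5,18,7,20,23,10,15,12,22,13,16,9,8,14,17,21,19,6,11]

/-- Elements commuting with it, one for each moved point. -/
def fiveMoves : List (List ℕ) := [
  [0,1,2,3,4,5,6,7,8,9,10,11,12,13,14,15,16,17,18,19,20,21,22,23],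
  [1,2,3,4,0,5,9,10,22,17,12,20,7,15,11,21,19,13,23,14,6,18,16,8],
  [2,3,4,0,1,5,14,7,21,11,10,16,12,6,22,9,23,20,13,8,19,17,18,15],
  [3,4,0,1,2,5,8,12,9,22,7,18,10,19,21,14,13,16,20,15,23,11,17,6],
  [4,0,1,2,3,5,22,7,17,16,10,23,12,14,18,11,15,19,6,21,8,20,13,9],
  [6,18,14,13,22,10,4,12,16,8,5,21,7,2,1,19,17,15,0,11,9,23,3,20],
  [8,20,21,19,17,7,6,12,11,3,10,0,5,13,14,1,2,23,18,9,15,16,22,4],
  [9,23,11,15,16,12,0,7,19,22,5,18,10,3,2,14,13,21,1,20,17,8,4,6],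
  [11,15,16,9,23,12,21,10,13,3,7,0,5,8,17,1,2,14,19,18,22,6,20,4],
  [13,22,6,18,14,10,2,12,11,19,5,8,7,0,4,20,21,23,3,9,15,16,1,17],
  [14,13,22,6,18,10,15,7,17,2,12,4,5,23,9,0,1,19,16,21,8,20,11,3],
  [15,16,9,23,11,12,19,10,22,4,7,1,5,20,8,2,3,13,17,14,6,18,21,0],
  [16,9,23,11,15,12,14,5,2,8,10,21,7,6,22,19,17,1,13,0,3,4,18,20],
  [17,8,20,21,19,7,1,10,14,16,5,23,12,4,3,11,15,18,2,6,13,22,0,9],
  [18,14,13,22,6,10,8,5,3,15,7,9,12,19,21,23,11,2,20,1,4,0,17,16],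
  [19,17,8,20,21,7,13,12,9,1,10,3,5,18,6,4,0,16,22,15,23,11,14,2],
  [20,21,19,17,8,7,9,5,1,14,12,22,10,15,11,6,18,0,23,4,2,3,16,13],
  [21,19,17,8,20,7,4,10,6,11,5,16,12,2,1,9,23,22,0,13,18,14,3,15],
  [22,6,18,14,13,10,9,7,20,4,12,1,5,15,11,2,3,8,23,17,21,19,16,0],
  [23,11,15,16,9,12,1,7,17,6,5,14,10,4,3,13,22,19,2,21,8,20,0,18]]

/-- An element squaring it. -/
def fiveFour : List ℕ := [0,2,4,1,3,5,23,7,8,22,12,13,10,11,9,6,14,19,15,20,21,17,16,18]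

/-- An element commuting with it and swapping two fixed points. -/
def fiveSwap : List ℕ := [8,20,21,19,17,7,16,5,0,18,12,13,10,11,23,22,6,4,9,3,1,2,15,14]

/-- An element of order fifteen. -/
def fifteen : List ℕ := [1,2,3,4,0,5,9,10,22,17,12,20,7,15,11,21,19,13,23,14,6,18,16,8]

/-- Elements commuting with the element of order seven, one for each moved point. -/
def sevenCMoves : List (List ℕ) := [
  [0,1,2,3,4,5,6,7,8,9,10,11,12,13,14,15,16,17,18,19,20,21,22,23],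
  [1,2,3,4,7,5,17,12,19,9,10,16,0,23,11,14,22,13,15,21,18,6,20,8],
  [2,3,4,7,12,5,13,0,21,9,10,22,1,8,16,11,20,23,14,6,15,17,18,19],
  [3,4,7,12,0,5,23,1,6,9,10,20,2,19,22,16,18,8,11,17,14,13,15,21],
  [4,7,12,0,1,5,8,2,17,9,10,18,3,21,20,22,15,19,16,13,11,23,14,6],
  [6,17,13,23,8,5,4,19,1,10,9,22,21,12,16,11,20,7,14,2,15,3,18,0],
  [7,12,0,1,2,5,19,3,13,9,10,15,4,6,18,20,14,21,22,23,16,8,11,17],
  [8,19,21,6,17,5,1,13,7,10,9,14,23,3,15,18,11,2,20,12,22,0,16,4],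
  [11,16,22,20,18,9,7,15,2,10,5,8,14,0,23,13,19,12,17,3,6,4,21,1],
  [12,0,1,2,3,5,21,4,23,9,10,14,7,17,15,18,11,6,20,8,22,19,16,13],
  [13,23,8,19,21,5,12,6,3,10,9,18,17,1,20,22,15,0,16,4,11,7,14,2],
  [14,11,16,22,20,9,4,18,1,10,5,23,15,12,13,17,8,7,6,2,21,3,19,0],
  [15,14,11,16,22,9,3,20,0,10,5,13,18,7,17,6,23,4,21,1,19,2,8,12],
  [16,22,20,18,15,9,12,14,3,10,5,19,11,1,8,23,21,0,13,4,17,7,6,2],
  [17,13,23,8,19,5,7,21,2,10,9,20,6,0,22,16,18,12,11,3,14,4,15,1],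
  [18,15,14,11,16,9,2,22,12,10,5,17,20,4,6,21,13,3,19,0,8,1,23,7],
  [19,21,6,17,13,5,2,23,12,10,9,11,8,4,14,15,16,3,18,0,20,1,22,7],
  [20,18,15,14,11,9,1,16,7,10,5,6,22,3,21,19,17,2,8,12,23,0,13,4],
  [21,6,17,13,23,5,3,8,0,10,9,16,19,7,11,14,22,4,15,1,18,2,20,12],
  [22,20,18,15,14,9,0,11,4,10,5,21,16,2,19,8,6,1,23,7,13,12,17,3],
  [23,8,19,21,6,5,0,17,4,10,9,15,13,2,18,20,14,1,22,7,16,12,11,3]]

/-- An element squaring it. -/
def sevenThree : List ℕ := [0,2,4,12,1,5,13,3,23,9,10,20,7,21,16,14,15,8,18,19,22,6,11,17]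

/-- An element commuting with it and swapping two fixed points. -/
def sevenSwap : List ℕ := [0,1,2,3,4,9,14,7,20,5,10,17,12,16,6,21,13,11,19,18,8,15,23,22]

/-- An element of order twenty-one. -/
def twentyOne : List ℕ := [6,17,13,23,8,10,16,19,15,5,9,7,21,20,4,3,12,22,2,14,1,11,0,18]

/-- An element fixing the two points, moved by the swaps. -/
def fiveProbe : List ℕ := [17,13,6,14,20,5,21,7,3,22,9,0,4,11,10,12,23,8,19,15,16,18,1,2]

/-- An element fixing the two points, moved by the swaps. -/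
def sevenProbe : List ℕ := [23,18,12,13,14,5,17,8,22,9,10,7,19,6,0,2,20,3,1,15,16,21,11,4]

end CfsgLib.J4Facts21.Data
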